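import Groth.Agent.Lib.DenseProj1.Away
import Groth.Agent.Lib.Hensel.Properties
import Mathlib

/-!
# Finite projective modules over `A'[1/t]` descend to `A[1/t]` for henselian `(A, tA)`
-/

universe u

open TensorProduct Polynomial

namespace GrothLib.DenseProj1

theorem sq_sub_self_add {R : Type*} [Ring R] (a y : R) (h : Commute a y) :
    (a + (1 - 2 * a) * y) * (a + (1 - 2 * a) * y) - (a + (1 - 2 * a) * y) =
      (a * a - a) + (1 + 4 * (a * a - a)) * (y * y - y) := by
  have hc : y * a = a * y := h.symm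
  have hc' : ∀ z, y * (a * z) = a * (y * z) := fun z => by rw [← mul_assoc, hc, mul_assoc]
  simp only [two_mul, show (4 : R) = 1 + 1 + 1 + 1 by norm_num, sub_mul, mul_sub, add_mul, mul_add, one_mul,
    mul_one, mul_assoc, hc, hc']
  abel

variable {A A' L L' : Type u} [CommRing A] [CommRing A'] [CommRing L] [CommRing L'] [Algebra A L] [Algebra A' L']
  [Algebra L L'] (f : A →+* A') (t : A) [IsLocalization.Away t L] [IsLocalization.Away (f t) L']

variable {f t} in
/-- An idempotent matrix over `A[1/t]` close to a given one over `A'[1/t]`. -/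
theorem exists_idempotent_near [HenselianRing A (Ideal.span {t})]
    (hcomm : ∀ a, algebraMap L L' (algebraMap A L a) = algebraMap A' L' (f a))
    (hd : ∀ (m : ℕ) (y : A'), ∃ a, f t ^ m ∣ y - f a)
    (hi : ∀ (m : ℕ) (a : A), f t ^ m ∣ f a → t ^ m ∣ a)
    {n : ℕ} (E' : Matrix (Fin n) (Fin n) L') (hE : E' * E' = E') :
    ∃ (e : Matrix (Fin n) (Fin n) L) (W : Matrix (Fin n) (Fin n) A'), e * e = e ∧
      (2 * E' - 1) * (e.map (algebraMap L L') - E') = (f t • W).map (algebraMap A' L') := by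
  classical
  let φ := (algebraMap A L).mapMatrix (m := Fin n)
  let φ' := (algebraMap A' L').mapMatrix (m := Fin n)
  let ψ := (algebraMap L L').mapMatrix (m := Fin n)
  let F := f.mapMatrix (m := Fin n)
  have hψφ : ∀ X, ψ (φ X) = φ' (F X) := fun X => Matrix.ext fun i j => hcomm _
  have hsm : ∀ (c : A') X, φ' (c • X) = algebraMap A' L' c • φ' X := fun c X => Matrix.ext fun i j => by
    simp [φ']
  have hsm₁ : ∀ (c : A) X, φ (c • X) = algebraMap A L c • φ X := fun c X => Matrix.ext fun i j => by simp [φ]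
  have hsmF : ∀ (c : A) X, F (c • X) = f c • F X := fun c X => Matrix.ext fun i j => by simp [F]
  have hsmψ : ∀ (c : L) X, ψ (c • X) = algebraMap L L' c • ψ X := fun c X => Matrix.ext fun i j => by simp [ψ]
  set τ := algebraMap A L t with hτd
  have hτ : IsUnit τ := IsLocalization.Away.algebraMap_isUnit t
  set τ' := algebraMap A' L' (f t) with hτ'd
  have hτ' : IsUnit τ' := IsLocalization.Away.algebraMap_isUnit (f t)
  have hττ : algebraMap L L' τ = τ' := hcomm t
  -- common denominator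
  obtain ⟨⟨_, k, rfl⟩, hk⟩ := IsLocalization.exist_integer_multiples_of_finite (Submonoid.powers (f t))
    fun ij : Fin n × Fin n => E' ij.1 ij.2
  choose y₀ hy₀ using hk
  let y : Matrix (Fin n) (Fin n) A' := Matrix.of fun i j => y₀ (i, j)
  have hy : φ' y = τ' ^ k • E' := Matrix.ext fun i j => by
    have := hy₀ (i, j)
    simp only [Algebra.smul_def, map_pow] at this
    simpa [φ', y] using this
  have hy2 : φ' (y * y - f t ^ k • y) = 0 := by
    rw [map_sub, map_mul, hsm, map_pow, hy, smul_mul_smul_comm, hE, smul_smul, ← hτ'd, sub_self]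
  choose a₀ c hc using fun i j => hd (4 * k + 1) (y i j)
  set a0 : Matrix (Fin n) (Fin n) A := Matrix.of a₀ with ha0
  have hFa : F a0 = y - f t ^ (4 * k + 1) • Matrix.of c := Matrix.ext fun i j => by
    have := hc i j
    simp [F, ha0, ← this]
  set z := a0 * a0 - t ^ k • a0 with hz
  set C' := f t ^ (4 * k + 1) • (Matrix.of c * Matrix.of c) - y * Matrix.of c - Matrix.of c * y +
    f t ^ k • Matrix.of c
  have hFz : F z = (y * y - f t ^ k • y) + f t ^ (4 * k + 1) • C' := by
    simp only [hz, C', map_sub, map_mul, hsmF, map_pow, hFa, sub_mul, mul_sub, Matrix.smul_mul, Matrix.mul_smul,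
      smul_sub, smul_add, smul_comm (f t ^ k) (f t ^ (4 * k + 1))]
    abel
  -- divisibility of the entries
  have hD : ∀ i j, ∃ D : A, algebraMap A L (z i j) = τ ^ (4 * k + 1) * algebraMap A L D := fun i j => by
    have h0 : algebraMap A' L' ((y * y - f t ^ k • y) i j) = algebraMap A' L' 0 := by
      rw [map_zero]
      exact congrFun (congrFun hy2 i) j
    obtain ⟨l, hl⟩ := IsLocalization.Away.exists_of_eq (S := L') (f t) h0
    obtain ⟨D, hD⟩ := hi (l + (4 * k + 1)) (t ^ l * z i j) ⟨C' i j, by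
      rw [map_mul, map_pow, show f (z i j) = F z i j from rfl, hFz, Matrix.add_apply, mul_add, hl, mul_zero,
        zero_add, Matrix.smul_apply, smul_eq_mul]
      ring⟩
    refine ⟨D, (hτ.pow l).mul_right_inj.1 ?_⟩
    have := congrArg (algebraMap A L) hD
    simp only [map_mul, map_pow] at this
    rw [this, pow_add, mul_assoc]
  choose D₀ hD using hD
  set D : Matrix (Fin n) (Fin n) A := Matrix.of D₀
  have hzD : φ z = τ ^ (4 * k + 1) • φ D := Matrix.ext fun i j => by simpa [φ, D] using hD i j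
  obtain ⟨a, haa⟩ : ∃ a : Matrix (Fin n) (Fin n) L, τ ^ k • a = φ a0 :=
    ⟨(↑(hτ.pow k).unit⁻¹ : L) • φ a0, by rw [smul_smul, IsUnit.mul_val_inv, one_smul]⟩
  have hd' : a * a - a = τ ^ (2 * k + 1) • φ D := by
    refine ((hτ.pow (2 * k)).smul_left_cancel).1 ?_
    rw [smul_smul, ← pow_add, show 2 * k + (2 * k + 1) = 4 * k + 1 by ring, ← hzD, hz, map_sub, map_mul, hsm₁,
      map_pow, ← haa, smul_mul_smul_comm, smul_smul, smul_sub, ← pow_add, two_mul]
  -- the root
  set K : Ideal A[X] := Ideal.span {D.charpoly}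
  have : Module.Finite A (A[X] ⧸ K) := (Matrix.charpoly_monic D).finite_adjoinRoot
  have : Algebra.IsIntegral A (A[X] ⧸ K) := Algebra.IsIntegral.of_finite A _
  haveI := GrothLib.Hensel.henselianRing_of_isIntegral (Ideal.span {t}) (A[X] ⧸ K)
  let g : A[X] ⧸ K →+* Matrix (Fin n) (Fin n) A := Ideal.Quotient.lift K
    (aeval D : A[X] →ₐ[A] Matrix (Fin n) (Fin n) A).toRingHom fun p hp => by
      obtain ⟨q, rfl⟩ := Ideal.mem_span_singleton.1 hp
      show aeval D (D.charpoly * q) = 0
      rw [map_mul, Matrix.aeval_self_charpoly, zero_mul]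
  let G := φ.comp g
  set T : A[X] ⧸ K := algebraMap A _ t with hT
  have hTJ : T ∈ (Ideal.span {t}).map (algebraMap A (A[X] ⧸ K)) :=
    Ideal.mem_map_of_mem _ (Ideal.mem_span_singleton_self t)
  have hTjac : T ∈ (⊥ : Ideal (A[X] ⧸ K)).jacobson :=
    HenselianRing.jac (I := (Ideal.span {t}).map (algebraMap A (A[X] ⧸ K))) hTJ
  set Dc : A[X] ⧸ K := Ideal.Quotient.mk K X with hDc
  set dc := T ^ (2 * k + 1) * Dc with hdc
  have hu : IsUnit (1 + 4 * dc) := by
    have := Ideal.mem_jacobson_bot.1 hTjac (4 * (T ^ (2 * k) * Dc))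
    rwa [show T * (4 * (T ^ (2 * k) * Dc)) + 1 = 1 + 4 * dc by rw [hdc]; ring] at this
  obtain ⟨w, hw⟩ := hu
  set P : (A[X] ⧸ K)[X] := X ^ 2 - X + C (dc * ↑w⁻¹) with hP
  have hPm : P.Monic := by rw [hP]; monicity!
  have hJ1 : P.eval 0 ∈ (Ideal.span {t}).map (algebraMap A (A[X] ⧸ K)) := by
    simp only [hP, eval_add, eval_sub, eval_pow, eval_X, eval_C, zero_pow two_ne_zero, sub_zero, zero_add]
    rw [hdc, pow_succ]
    exact Ideal.mul_mem_right _ _ (Ideal.mul_mem_right _ _ (Ideal.mul_mem_left _ _ hTJ))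
  obtain ⟨x, hx, hx0⟩ := HenselianRing.is_henselian P hPm 0 hJ1 (by
    rw [hP]; simp only [derivative_add, derivative_sub, derivative_X_pow, derivative_X, derivative_C, eval_add, eval_sub,
      eval_mul, eval_pow, eval_X, eval_C, eval_one, eval_zero, mul_zero, zero_pow, pow_one, Nat.succ_sub_one, zero_sub,
      add_zero, map_neg, map_one]
    letI := Ideal.Quotient.commRing ((Ideal.span {t}).map (algebraMap A (A[X] ⧸ K)))
    exact isUnit_one.neg)
  rw [sub_zero] at hx0
  have hx2 : x * x - x = -(dc * ↑w⁻¹) := by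
    have := hx.eq_zero
    simp only [hP, eval_add, eval_sub, eval_pow, eval_X, eval_C] at this
    linear_combination this
  have hx1 : IsUnit (x - 1) := by
    have h := Ideal.mem_jacobson_bot.1 (HenselianRing.jac hx0) (-1)
    have := h.neg
    convert this using 1
    ring
  obtain ⟨v, hv⟩ := hx1
  have hxT : x = T ^ (2 * k + 1) * (-(Dc * ↑w⁻¹ * ↑v⁻¹)) := by
    have h1 : x * v = -(dc * ↑w⁻¹) := by rw [hv, mul_sub, mul_one, hx2]
    calc x = x * v * ↑v⁻¹ := by rw [mul_assoc, Units.mul_inv, mul_one]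
      _ = _ := by rw [h1, hdc]; ring
  have hgT : ∀ m, g (T ^ m) = t ^ m • (1 : Matrix (Fin n) (Fin n) A) := fun m => by
    rw [hT, ← map_pow, ← Ideal.Quotient.mk_algebraMap, Ideal.Quotient.lift_mk]
    show aeval D (algebraMap A A[X] (t ^ m)) = _
    rw [AlgHom.commutes, Algebra.algebraMap_eq_smul_one]
  have hgD : g Dc = D := by
    rw [hDc, Ideal.Quotient.lift_mk]
    exact aeval_X D
  have hGd : G dc = a * a - a := by
    show φ (g dc) = _
    rw [hd', hdc, map_mul, hgT, hgD, Matrix.smul_mul, Matrix.one_mul, hsm₁, map_pow]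
  set Z := g (-(Dc * ↑w⁻¹ * ↑v⁻¹)) with hZ
  have hGx : G x = τ ^ (2 * k + 1) • φ Z := by
    show φ (g x) = _
    rw [hxT, map_mul, hgT, Matrix.smul_mul, Matrix.one_mul, hsm₁, map_pow]
  have hcomm' : ∀ p : A[X] ⧸ K, Commute a (G p) := fun p => by
    obtain ⟨p, rfl⟩ := Ideal.Quotient.mk_surjective p
    show Commute a (φ (aeval D p))
    have hD1 : Commute a (φ D) := by
      have h1 : Commute a (τ ^ (2 * k + 1) • φ D) := by
        rw [← hd']
        exact ((Commute.refl a).mul_right (Commute.refl a)).sub_right (Commute.refl a)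
      have h2 := h1.smul_right (↑(hτ.pow (2 * k + 1)).unit⁻¹ : L)
      rwa [smul_smul, IsUnit.val_inv_mul, one_smul] at h2
    induction p using Polynomial.induction_on' with
    | add p q hp hq => rw [map_add, map_add]; exact hp.add_right hq
    | monomial m r =>
      rw [aeval_monomial, Algebra.algebraMap_eq_smul_one, Matrix.smul_mul, Matrix.one_mul, hsm₁, map_pow]
      exact (hD1.pow_right m).smul_right _
  set e := a + (1 - 2 * a) * G x
  have hee : e * e = e := by
    rw [← sub_eq_zero, sq_sub_self_add a (G x) (hcomm' x), ← hGd, ← map_mul, ← map_sub, hx2,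
      show (4 : Matrix (Fin n) (Fin n) L) = G 4 from (map_ofNat G 4).symm, ← map_mul, ← map_one G, ← map_add,
      ← map_mul, ← map_add, ← hw, show dc + ↑w * -(dc * ↑w⁻¹) = 0 by linear_combination (-dc) * w.mul_inv,
      map_zero]
  -- comparison with E'
  refine ⟨e, (2 * y - f t ^ k • 1) *
    (-(f t ^ (2 * k) • Matrix.of c) + (f t ^ k • 1 - 2 * F a0) * F Z), hee, ?_⟩
  show (2 * E' - 1) * (ψ e - E') = φ' _
  have hψa : τ' ^ k • ψ a = φ' y - τ' ^ (4 * k + 1) • φ' (Matrix.of c) := by
    rw [← hττ, ← map_pow, ← hsmψ, haa, hψφ, hFa, map_sub, hsm, map_pow, hττ]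
  have hψe : τ' ^ k • (ψ e - E') = τ' ^ (2 * k + 1) •
      φ' (-(f t ^ (2 * k) • Matrix.of c) + (f t ^ k • 1 - 2 * F a0) * F Z) := by
    have hFa' : φ' (F a0) = τ' ^ k • ψ a := by rw [← hψφ, ← haa, hsmψ, map_pow, hττ]
    have hψe' : ψ e = ψ a + (1 - 2 * ψ a) * (τ' ^ (2 * k + 1) • φ' (F Z)) := by
      rw [map_add, map_mul, map_sub, map_mul, map_one, map_ofNat, hGx, hsmψ, map_pow, hττ, hψφ]
    have hR : φ' (-(f t ^ (2 * k) • Matrix.of c) + (f t ^ k • 1 - 2 * F a0) * F Z) =
        -(τ' ^ (2 * k) • φ' (Matrix.of c)) + (τ' ^ k • (1 - 2 * ψ a)) * φ' (F Z) := by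
      rw [map_add, map_neg, map_mul, map_sub, map_mul, map_ofNat, hsm, hsm, map_one, map_pow, map_pow, ← hτ'd,
        hFa', smul_sub, Matrix.mul_smul]
    rw [hψe', hR, add_sub_right_comm, smul_add, smul_sub, hψa, hy, sub_sub_cancel_left, Matrix.mul_smul,
      Matrix.smul_mul, smul_add, smul_neg, smul_smul, smul_smul, smul_smul, ← pow_add, ← pow_add, ← pow_add]
    ring_nf
  refine ((hτ'.pow (k + k)).smul_left_cancel).1 ?_
  rw [pow_add, ← smul_smul, ← Matrix.mul_smul, hψe, hsm, map_mul, map_sub, map_mul, map_ofNat, hy, hsm, map_one,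
    map_pow, ← hτ'd]
  simp only [sub_mul, two_mul, add_mul, Matrix.one_mul, Matrix.mul_smul, Matrix.smul_mul, smul_sub, smul_add,
    smul_smul]
  ring_nf

theorem piScalarRight_range {n : ℕ} (e : Matrix (Fin n) (Fin n) L) (he : e * e = e)
    (pr : (Fin n → L) →ₗ[L] LinearMap.range (Matrix.toLin' e))
    (hpr : ∀ v, (pr v : Fin n → L) = Matrix.toLin' e v) (x : Fin n → L') :
    TensorProduct.piScalarRight L L' L' (Fin n) ((LinearMap.range (Matrix.toLin' e)).subtype.baseChange L'
      (pr.baseChange L' ((TensorProduct.piScalarRight L L' L' (Fin n)).symm x))) =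
      Matrix.toLin' (e.map (algebraMap L L')) x := by
  rw [← LinearMap.comp_apply ((LinearMap.range (Matrix.toLin' e)).subtype.baseChange L'), ← LinearMap.baseChange_comp,
    show (LinearMap.range (Matrix.toLin' e)).subtype ∘ₗ pr = Matrix.toLin' e from LinearMap.ext hpr,
    piScalarRight_baseChange, LinearEquiv.apply_symm_apply, LinearMap.toMatrix'_toLin']

variable {f t} in
/-- Finite projective modules over `A'[1/t]` come from `A[1/t]`. -/
theorem exists_projective [HenselianRing A (Ideal.span {t})]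
    (hcomm : ∀ a, algebraMap L L' (algebraMap A L a) = algebraMap A' L' (f a))
    (hd : ∀ (m : ℕ) (y : A'), ∃ a, f t ^ m ∣ y - f a)
    (hi : ∀ (m : ℕ) (a : A), f t ^ m ∣ f a → t ^ m ∣ a)
    (ht' : f t ∈ (⊥ : Ideal A').jacobson)
    (M' : Type u) [AddCommGroup M'] [Module L' M'] [Module.Finite L' M'] [Module.Projective L' M'] :
    ∃ (M : Type u) (_ : AddCommGroup M) (_ : Module L M),
      Module.Finite L M ∧ Module.Projective L M ∧ Nonempty (L' ⊗[L] M ≃ₗ[L'] M') := by
  classical
  obtain ⟨n, p, hp⟩ := Module.Finite.exists_fin' L' M'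
  obtain ⟨i, hi'⟩ := Module.projective_lifting_property p LinearMap.id hp
  have hpi : ∀ x, p (i x) = x := fun x => LinearMap.congr_fun hi' x
  set E' := LinearMap.toMatrix' (i ∘ₗ p) with hE'
  have hEl : Matrix.toLin' E' = i ∘ₗ p := Matrix.toLin'_toMatrix' _
  have hE : E' * E' = E' := by
    rw [hE', ← LinearMap.toMatrix'_comp]
    congr 1
    exact LinearMap.ext fun x => by simp [hpi]
  obtain ⟨e, W, he, hW⟩ := exists_idempotent_near (L := L) hcomm hd hi E' hE
  set e' := e.map (algebraMap L L') with he'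
  have hee : e' * e' = e' := by rw [he', ← Matrix.map_mul, he]
  have hvu : IsUnit (1 + (2 * E' - 1) * (e' - E')) := by
    rw [hW]
    have := (isUnit_one_add_of_mem_jacobson ht' W).map (algebraMap A' L').mapMatrix
    rwa [map_add, map_one] at this
  obtain ⟨v, hv⟩ := hvu
  have hconj : E' * (↑v : Matrix (Fin n) (Fin n) L') = (↑v : Matrix (Fin n) (Fin n) L') * e' := by
    rw [hv]
    simp only [two_mul, sub_mul, mul_sub, add_mul, mul_add, one_mul, mul_one, mul_assoc, hE, hee]
    simp only [← mul_assoc, hE]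
    abel
  have hv' : (↑v⁻¹ : Matrix (Fin n) (Fin n) L') * E' = e' * (↑v⁻¹ : Matrix (Fin n) (Fin n) L') := by
    rw [Units.inv_mul_eq_iff_eq_mul, ← mul_assoc, Units.eq_mul_inv_iff_mul_eq, hconj]
  let pr : (Fin n → L) →ₗ[L] LinearMap.range (Matrix.toLin' e) := (Matrix.toLin' e).rangeRestrict
  have hpr : ∀ v, (pr v : Fin n → L) = Matrix.toLin' e v := fun v => rfl
  have hfix : pr ∘ₗ (LinearMap.range (Matrix.toLin' e)).subtype = LinearMap.id := by
    refine LinearMap.ext fun ⟨x, y, hy⟩ => Subtype.ext ?_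
    show Matrix.toLin' e x = x
    rw [← hy, ← LinearMap.comp_apply, ← Matrix.toLin'_mul, he]
  haveI : Module.Finite L (LinearMap.range (Matrix.toLin' e)) :=
    Module.Finite.of_surjective pr (LinearMap.surjective_rangeRestrict _)
  refine ⟨LinearMap.range (Matrix.toLin' e), inferInstance, inferInstance, inferInstance,
    Module.Projective.of_split (LinearMap.range (Matrix.toLin' e)).subtype pr hfix, ⟨LinearEquiv.ofLinear
      (p ∘ₗ Matrix.toLin' (↑v : Matrix (Fin n) (Fin n) L') ∘ₗ (TensorProduct.piScalarRight L L' L' (Fin n)).toLinearMap ∘ₗ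
        (LinearMap.range (Matrix.toLin' e)).subtype.baseChange L')
      (pr.baseChange L' ∘ₗ (TensorProduct.piScalarRight L L' L' (Fin n)).symm.toLinearMap ∘ₗ
        Matrix.toLin' (↑v⁻¹ : Matrix (Fin n) (Fin n) L') ∘ₗ i) ?_ ?_⟩⟩
  · refine LinearMap.ext fun x => ?_
    simp only [LinearMap.comp_apply, LinearEquiv.coe_coe, piScalarRight_range e he pr hpr, LinearMap.id_apply]
    rw [← LinearMap.comp_apply (Matrix.toLin' (↑v : Matrix (Fin n) (Fin n) L')), ← Matrix.toLin'_mul,
      ← LinearMap.comp_apply (Matrix.toLin' ((↑v : Matrix (Fin n) (Fin n) L') * _)), ← Matrix.toLin'_mul,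
      ← hconj, mul_assoc, Units.mul_inv, mul_one, hEl]
    simp [hpi]
  · refine LinearMap.ext fun z => ?_
    simp only [LinearMap.comp_apply, LinearEquiv.coe_coe, LinearMap.id_apply]
    rw [← LinearMap.comp_apply i, ← hEl, ← LinearMap.comp_apply (Matrix.toLin' (↑v⁻¹ : Matrix (Fin n) (Fin n) L')),
      ← Matrix.toLin'_mul, ← LinearMap.comp_apply (Matrix.toLin' ((↑v⁻¹ : Matrix (Fin n) (Fin n) L') * E')),
      ← Matrix.toLin'_mul, hv', mul_assoc, Units.inv_mul, mul_one]
    have h := piScalarRight_baseChange L' (Matrix.toLin' e)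
      ((LinearMap.range (Matrix.toLin' e)).subtype.baseChange L' z)
    rw [LinearMap.toMatrix'_toLin'] at h
    rw [← h, LinearEquiv.symm_apply_apply, ← LinearMap.comp_apply, ← LinearMap.comp_apply,
      ← LinearMap.baseChange_comp, ← LinearMap.baseChange_comp]
    have : pr ∘ₗ Matrix.toLin' e ∘ₗ (LinearMap.range (Matrix.toLin' e)).subtype = LinearMap.id := by
      refine LinearMap.ext fun ⟨x, y, hy⟩ => Subtype.ext ?_
      show Matrix.toLin' e (Matrix.toLin' e x) = x
      rw [← hy, ← LinearMap.comp_apply, ← Matrix.toLin'_mul, he, ← LinearMap.comp_apply, ← Matrix.toLin'_mul, he]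
    rw [LinearMap.comp_assoc, this, LinearMap.baseChange_id, LinearMap.id_apply]

end GrothLib.DenseProj1
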