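import Groth.Agent.Lib.DenseProj1.Basic
import Mathlib

/-!
# Density of `A[1/t] → A'[1/t]` for a map inducing `A/t^m ≃ A'/t^m` of Zariski pairs
-/

universe u

namespace GrothLib.DenseProj1

variable {A A' L L' : Type u} [CommRing A] [CommRing A'] [CommRing L] [CommRing L'] [Algebra A L] [Algebra A' L']
  [Algebra L L'] (f : A →+* A') (t : A) [IsLocalization.Away t L] [IsLocalization.Away (f t) L']

theorem isUnit_one_add_of_mem_jacobson {C : Type u} [CommRing C] {ι : Type} [Fintype ι] [DecidableEq ι] {s : C}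
    (hs : s ∈ (⊥ : Ideal C).jacobson) (X : Matrix ι ι C) : IsUnit (1 + s • X) := by
  rw [Matrix.isUnit_iff_isUnit_det]
  have h : Ideal.Quotient.mk (Ideal.span {s}) ((1 + s • X).det) = 1 := by
    rw [RingHom.map_det, map_add, map_one,
      show (Ideal.Quotient.mk (Ideal.span {s})).mapMatrix (s • X) = 0 from Matrix.ext fun i j => by
        simp [Ideal.Quotient.eq_zero_iff_mem.2 (Ideal.mem_span_singleton_self s)],
      add_zero, Matrix.det_one]
  rw [← map_one (Ideal.Quotient.mk (Ideal.span {s})), Ideal.Quotient.mk_eq_mk_iff_sub_mem,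
    Ideal.mem_span_singleton] at h
  obtain ⟨y, hy⟩ := h
  have := Ideal.mem_jacobson_bot.1 hs y
  rwa [← hy, sub_add_cancel] at this

theorem isDense_away (hcomm : ∀ a, algebraMap L L' (algebraMap A L a) = algebraMap A' L' (f a))
    (hd : ∀ (m : ℕ) (y : A'), ∃ a, f t ^ m ∣ y - f a)
    (hi : ∀ (m : ℕ) (a : A), f t ^ m ∣ f a → t ^ m ∣ a)
    (ht : t ∈ (⊥ : Ideal A).jacobson) (ht' : f t ∈ (⊥ : Ideal A').jacobson) :
    IsDense L L' (((Algebra.linearMap A' L').range.restrictScalars A').toAddSubgroup.map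
      (AddMonoidHom.mulLeft (algebraMap A' L' (f t)))) := by
  set t' := algebraMap A' L' (f t) with ht'def
  have htu : IsUnit (algebraMap A L t) := IsLocalization.Away.algebraMap_isUnit t
  have htu' : IsUnit t' := IsLocalization.Away.algebraMap_isUnit (f t)
  have hmem : ∀ x : L', x ∈ ((Algebra.linearMap A' L').range.restrictScalars A').toAddSubgroup.map
      (AddMonoidHom.mulLeft t') ↔ ∃ y, x = t' * algebraMap A' L' y := fun x => by
    constructor
    · rintro ⟨_, ⟨y, rfl⟩, rfl⟩
      exact ⟨y, rfl⟩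
    · rintro ⟨y, rfl⟩
      exact ⟨_, ⟨y, rfl⟩, rfl⟩
  constructor
  · intro Y x
    classical
    obtain ⟨k, y, hy⟩ := IsLocalization.Away.surj (f t) x
    choose kz wz hwz using fun z : L' => IsLocalization.Away.surj (f t) z
    obtain ⟨a, d, hd⟩ := hd (k + (Y.sup kz) + 1) y
    refine ⟨algebraMap A L a * ↑(htu.unit ^ k)⁻¹, fun z hz => (hmem _).2
      ⟨-(d * f t ^ (Y.sup kz - kz z) * wz z), ?_⟩⟩
    have e1 : algebraMap L L' (algebraMap A L a * ↑(htu.unit ^ k)⁻¹) * t' ^ k = algebraMap A' L' (f a) := by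
      rw [← hcomm, ht'def, ← hcomm, ← map_pow, ← map_mul, mul_assoc,
        show algebraMap A L t ^ k = ↑(htu.unit ^ k) by rw [Units.val_pow_eq_pow_val, IsUnit.unit_spec],
        Units.inv_mul, mul_one]
    refine ((htu'.pow (k + kz z)).mul_left_inj).1 ?_
    have e2 := hwz z
    have e3 := congrArg (algebraMap A' L') hd
    simp only [map_sub, map_mul, map_pow] at e3
    rw [← hy] at e3
    have hle : kz z ≤ Y.sup kz := Finset.le_sup hz
    obtain ⟨c, hc⟩ := Nat.exists_eq_add_of_le hle
    rw [hc, Nat.add_sub_cancel_left]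
    rw [hc] at e3
    simp only [map_neg, map_mul, map_pow]
    rw [← e1] at e3
    simp only [ht'def, map_mul] at *
    linear_combination (-(z * (algebraMap A' L' (f t)) ^ kz z)) * e3 -
      ((algebraMap A' L' (f t)) ^ (k + (kz z + c) + 1) * algebraMap A' L' d) * e2
  · intro ι _ _ X hX
    have h : ∀ i j, ∃ a : A, X i j = algebraMap A L (t * a) := fun i j => by
      obtain ⟨y, hy⟩ := (hmem _).1 (hX i j)
      obtain ⟨k, a, ha⟩ := IsLocalization.Away.surj t (X i j)
      have h1 : algebraMap A' L' (f a) = algebraMap A' L' (f t ^ (k + 1) * y) := by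
        rw [← hcomm, ← ha, map_mul, hy, map_pow, hcomm, ← ht'def, map_mul, map_pow]
        ring
      obtain ⟨j', hj⟩ := IsLocalization.Away.exists_of_eq (S := L') (f t) h1
      obtain ⟨a', ha'⟩ := hi (j' + (k + 1)) (t ^ j' * a) ⟨y, by rw [map_mul, map_pow, hj]; ring⟩
      refine ⟨a', ((htu.pow (k + j')).mul_left_inj).1 ?_⟩
      have h2 := congrArg (algebraMap A L) ha'
      simp only [map_mul, map_pow] at h2 ⊢
      rw [← ha] at h2
      linear_combination h2
    choose a ha using h
    have := (isUnit_one_add_of_mem_jacobson ht (Matrix.of a)).map (algebraMap A L).mapMatrix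
    rwa [map_add, map_one, show (algebraMap A L).mapMatrix (t • Matrix.of a) = X from
      Matrix.ext fun i j => by simp [ha]] at this
  · intro ι _ _ X hX
    choose y hy using fun i j => (hmem _).1 (hX i j)
    have := (isUnit_one_add_of_mem_jacobson ht' (Matrix.of y)).map (algebraMap A' L').mapMatrix
    rwa [map_add, map_one, show (algebraMap A' L').mapMatrix (f t • Matrix.of y) = X from
      Matrix.ext fun i j => by simp [hy, ht'def]] at this

end GrothLib.DenseProj1
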