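import Mathlib

/-!
# Finite projective modules along a dense map of rings (Zariski pairs, `A[1/t] → Â[1/t]`)
-/

universe u

open TensorProduct

namespace GrothLib.DenseProj1

variable (L L' : Type u) [CommRing L] [CommRing L'] [Algebra L L']

/-- `S` is a set of small elements for which `L → L'` is dense, and `1 + small` is invertible. -/
structure IsDense (S : AddSubgroup L') : Prop where
  approx : ∀ (Y : Finset L') (x : L'), ∃ l : L, ∀ y ∈ Y, (algebraMap L L' l - x) * y ∈ S
  unit : ∀ (ι : Type) [Fintype ι] [DecidableEq ι] (X : Matrix ι ι L),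
    (∀ i j, algebraMap L L' (X i j) ∈ S) → IsUnit (1 + X)
  unit' : ∀ (ι : Type) [Fintype ι] [DecidableEq ι] (X : Matrix ι ι L'),
    (∀ i j, X i j ∈ S) → IsUnit (1 + X)

variable {L L'} {S : AddSubgroup L'} (hS : IsDense L L' S)

local notation "μ" => fun X => Matrix.map X (algebraMap L L')

include hS in
/-- Simultaneous approximation of a matrix. -/
theorem exists_approx {m n a b : ℕ} (X : Matrix (Fin m) (Fin n) L')
    (P : Matrix (Fin a) (Fin m) L') (Q : Matrix (Fin n) (Fin a) L')
    (P₂ : Matrix (Fin b) (Fin m) L') (Q₂ : Matrix (Fin n) (Fin b) L') :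
    ∃ X₀ : Matrix (Fin m) (Fin n) L,
      (∀ i j, (P * (X₀.map (algebraMap L L') - X) * Q) i j ∈ S) ∧
      (∀ i j, (P₂ * (X₀.map (algebraMap L L') - X) * Q₂) i j ∈ S) := by
  classical
  let Y : Finset L' :=
    (Finset.univ.image fun z : (Fin a × Fin m) × (Fin n × Fin a) => P z.1.1 z.1.2 * Q z.2.1 z.2.2) ∪
      (Finset.univ.image fun z : (Fin b × Fin m) × (Fin n × Fin b) => P₂ z.1.1 z.1.2 * Q₂ z.2.1 z.2.2)
  choose l hl using fun i j => hS.approx Y (X i j)
  refine ⟨Matrix.of l, fun i j => ?_, fun i j => ?_⟩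
  · simp only [Matrix.mul_apply, Finset.sum_mul]
    refine sum_mem fun x _ => sum_mem fun w _ => ?_
    rw [show P i w * ((Matrix.of l).map (algebraMap L L') - X) w x * Q x j =
      (algebraMap L L' (l w x) - X w x) * (P i w * Q x j) by simp; ring]
    exact hl w x _ (Finset.mem_union_left _ (Finset.mem_image.2 ⟨((i, w), (x, j)), Finset.mem_univ _, rfl⟩))
  · simp only [Matrix.mul_apply, Finset.sum_mul]
    refine sum_mem fun x _ => sum_mem fun w _ => ?_
    rw [show P₂ i w * ((Matrix.of l).map (algebraMap L L') - X) w x * Q₂ x j =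
      (algebraMap L L' (l w x) - X w x) * (P₂ i w * Q₂ x j) by simp; ring]
    exact hl w x _ (Finset.mem_union_right _ (Finset.mem_image.2 ⟨((i, w), (x, j)), Finset.mem_univ _, rfl⟩))

variable (L') in
theorem piScalarRight_baseChange {m n : ℕ} (f : (Fin n → L) →ₗ[L] (Fin m → L)) (x : L' ⊗[L] (Fin n → L)) :
    TensorProduct.piScalarRight L L' L' (Fin m) (f.baseChange L' x) =
      Matrix.toLin' ((LinearMap.toMatrix' f).map (algebraMap L L')) (TensorProduct.piScalarRight L L' L' (Fin n) x) := by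
  induction x using TensorProduct.induction_on with
  | zero => simp
  | add a b ha hb => simp only [map_add, ha, hb]
  | tmul c v =>
    funext i
    have hv : f v i = (LinearMap.toMatrix' f).mulVec v i := by rw [LinearMap.toMatrix'_mulVec]
    simp only [LinearMap.baseChange_tmul, TensorProduct.piScalarRight_apply, TensorProduct.piScalarRightHom_tmul,
      Matrix.toLin'_apply, Matrix.mulVec, dotProduct, Matrix.map_apply]
    rw [hv, Algebra.smul_def, Matrix.mulVec, dotProduct, map_sum, Finset.sum_mul]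
    refine Finset.sum_congr rfl fun j _ => ?_
    rw [Algebra.smul_def, map_mul]
    ring

/-- The matrix over `L'` of a linear map between base-changed free modules. -/
noncomputable def bcMatrix {m n : ℕ} (f : L' ⊗[L] (Fin n → L) →ₗ[L'] L' ⊗[L] (Fin m → L)) :
    Matrix (Fin m) (Fin n) L' :=
  LinearMap.toMatrix' ((TensorProduct.piScalarRight L L' L' (Fin m)).toLinearMap ∘ₗ f ∘ₗ
    (TensorProduct.piScalarRight L L' L' (Fin n)).symm.toLinearMap)

theorem bcMatrix_baseChange {m n : ℕ} (f : (Fin n → L) →ₗ[L] (Fin m → L)) :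
    bcMatrix (f.baseChange L') = (LinearMap.toMatrix' f).map (algebraMap L L') := by
  rw [bcMatrix, ← LinearMap.toMatrix'_toLin' ((LinearMap.toMatrix' f).map (algebraMap L L'))]
  congr 1
  refine LinearMap.ext fun x => ?_
  simp only [LinearMap.comp_apply, LinearEquiv.coe_coe]
  rw [piScalarRight_baseChange, LinearEquiv.apply_symm_apply]

theorem bcMatrix_comp {m n k : ℕ} (f : L' ⊗[L] (Fin n → L) →ₗ[L'] L' ⊗[L] (Fin m → L))
    (g : L' ⊗[L] (Fin k → L) →ₗ[L'] L' ⊗[L] (Fin n → L)) :
    bcMatrix (f ∘ₗ g) = bcMatrix f * bcMatrix g := by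
  rw [bcMatrix, bcMatrix, bcMatrix, ← LinearMap.toMatrix'_comp]
  congr 1
  refine LinearMap.ext fun x => ?_
  simp only [LinearMap.comp_apply, LinearEquiv.coe_coe, LinearEquiv.symm_apply_apply]

include hS in
/-- Finite projective modules which become isomorphic over `L'` are isomorphic. -/
theorem nonempty_equiv (M N : Type u) [AddCommGroup M] [Module L M] [Module.Finite L M] [Module.Projective L M]
    [AddCommGroup N] [Module L N] [Module.Finite L N] [Module.Projective L N]
    (θ : L' ⊗[L] M ≃ₗ[L'] L' ⊗[L] N) : Nonempty (M ≃ₗ[L] N) := by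
  classical
  obtain ⟨n, p, hp⟩ := Module.Finite.exists_fin' L M
  obtain ⟨i, hi⟩ := Module.projective_lifting_property p LinearMap.id hp
  obtain ⟨m, q, hq⟩ := Module.Finite.exists_fin' L N
  obtain ⟨j, hj⟩ := Module.projective_lifting_property q LinearMap.id hq
  set E := LinearMap.toMatrix' (i ∘ₗ p) with hE
  set F := LinearMap.toMatrix' (j ∘ₗ q) with hF
  have hpi : ∀ x, p.baseChange L' (i.baseChange L' x) = x := fun x => by
    rw [← LinearMap.comp_apply, ← LinearMap.baseChange_comp, hi, LinearMap.baseChange_id, LinearMap.id_apply]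
  have hqj : ∀ x, q.baseChange L' (j.baseChange L' x) = x := fun x => by
    rw [← LinearMap.comp_apply, ← LinearMap.baseChange_comp, hj, LinearMap.baseChange_id, LinearMap.id_apply]
  let a₁ := j.baseChange L' ∘ₗ θ.toLinearMap ∘ₗ p.baseChange L'
  let b₁ := i.baseChange L' ∘ₗ θ.symm.toLinearMap ∘ₗ q.baseChange L'
  set A := bcMatrix a₁ with hA
  set B := bcMatrix b₁ with hB
  have hEA : A * E.map (algebraMap L L') = A := by
    rw [hA, hE, ← bcMatrix_baseChange, ← bcMatrix_comp]
    congr 1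
    refine LinearMap.ext fun x => ?_
    simp [a₁, LinearMap.baseChange_comp, hpi]
  have hFA : F.map (algebraMap L L') * A = A := by
    rw [hA, hF, ← bcMatrix_baseChange, ← bcMatrix_comp]
    congr 1
    refine LinearMap.ext fun x => ?_
    simp [a₁, LinearMap.baseChange_comp, hqj]
  have hFB : B * F.map (algebraMap L L') = B := by
    rw [hB, hF, ← bcMatrix_baseChange, ← bcMatrix_comp]
    congr 1
    refine LinearMap.ext fun x => ?_
    simp [b₁, LinearMap.baseChange_comp, hqj]
  have hEB : E.map (algebraMap L L') * B = B := by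
    rw [hB, hE, ← bcMatrix_baseChange, ← bcMatrix_comp]
    congr 1
    refine LinearMap.ext fun x => ?_
    simp [b₁, LinearMap.baseChange_comp, hpi]
  have hBA : B * A = E.map (algebraMap L L') := by
    rw [hB, hA, hE, ← bcMatrix_baseChange, ← bcMatrix_comp]
    congr 1
    refine LinearMap.ext fun x => ?_
    simp [a₁, b₁, LinearMap.baseChange_comp, hqj]
  have hAB : A * B = F.map (algebraMap L L') := by
    rw [hB, hA, hF, ← bcMatrix_baseChange, ← bcMatrix_comp]
    congr 1
    refine LinearMap.ext fun x => ?_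
    simp [a₁, b₁, LinearMap.baseChange_comp, hpi]
  set E' := E.map (algebraMap L L')
  set F' := F.map (algebraMap L L')
  obtain ⟨At, hA₁, hA₂⟩ := exists_approx hS A B E' F' (E' * B)
  set A₀ := F * At * E with hA₀
  set A₀' := A₀.map (algebraMap L L') with hA₀'
  obtain ⟨Bt, hB₁, hB₂⟩ := exists_approx hS B E' (F' * A₀') (A₀' * E') F'
  set B₀ := E * Bt * F with hB₀
  have hA₀d : A₀' - A = F' * (At.map (algebraMap L L') - A) * E' := by
    rw [hA₀', hA₀, Matrix.map_mul, Matrix.map_mul, Matrix.mul_sub, Matrix.sub_mul, hFA, hEA]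
  have hB₀d : B₀.map (algebraMap L L') - B = E' * (Bt.map (algebraMap L L') - B) * F' := by
    rw [hB₀, Matrix.map_mul, Matrix.map_mul, Matrix.mul_sub, Matrix.sub_mul, hEB, hFB]
  have h1 : IsUnit (1 + (B₀ * A₀ - E)) := by
    refine hS.unit _ _ fun r s => ?_
    have : (B₀ * A₀ - E).map (algebraMap L L') =
        E' * (Bt.map (algebraMap L L') - B) * (F' * A₀') + B * (At.map (algebraMap L L') - A) * E' := by
      rw [← Matrix.mul_assoc _ F' A₀', ← hB₀d, Matrix.map_sub _ (map_sub _), Matrix.map_mul,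
        show B * (At.map (algebraMap L L') - A) * E' = B * (A₀' - A) by
          rw [hA₀d, ← Matrix.mul_assoc, ← Matrix.mul_assoc, hFB],
        Matrix.sub_mul, Matrix.mul_sub, hBA]
      abel
    rw [← Matrix.map_apply (f := algebraMap L L') (M := B₀ * A₀ - E), this]
    exact add_mem (hB₁ r s) (hA₁ r s)
  have h2 : IsUnit (1 + (A₀ * B₀ - F)) := by
    refine hS.unit _ _ fun r s => ?_
    have : (A₀ * B₀ - F).map (algebraMap L L') =
        A₀' * E' * (Bt.map (algebraMap L L') - B) * F' + F' * (At.map (algebraMap L L') - A) * (E' * B) := by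
      rw [← Matrix.mul_assoc _ E' B, ← hA₀d, Matrix.map_sub _ (map_sub _), Matrix.map_mul,
        show A₀' * E' * (Bt.map (algebraMap L L') - B) * F' = A₀' * (B₀.map (algebraMap L L') - B) by
          rw [hB₀d, ← Matrix.mul_assoc, ← Matrix.mul_assoc],
        Matrix.sub_mul, Matrix.mul_sub, hAB]
      abel
    rw [← Matrix.map_apply (f := algebraMap L L') (M := A₀ * B₀ - F), this]
    exact add_mem (hB₂ r s) (hA₂ r s)
  -- the linear maps
  let a : M →ₗ[L] N := q ∘ₗ Matrix.toLin' At ∘ₗ i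
  let b : N →ₗ[L] M := p ∘ₗ Matrix.toLin' Bt ∘ₗ j
  have key : ∀ (k : ℕ) (K : Type u) (_ : AddCommGroup K) (_ : Module L K) (f : K →ₗ[L] K)
      (ι : K →ₗ[L] (Fin k → L)) (π : (Fin k → L) →ₗ[L] K), π ∘ₗ ι = LinearMap.id →
      IsUnit (1 + (LinearMap.toMatrix' (ι ∘ₗ f ∘ₗ π) - LinearMap.toMatrix' (ι ∘ₗ π))) →
      Function.Bijective f := by
    intro k K _ _ f ι π hπ hu
    have hπ' : ∀ x, π (ι x) = x := fun x => LinearMap.congr_fun hπ x
    set u := LinearMap.id + (ι ∘ₗ f ∘ₗ π - ι ∘ₗ π) with hu'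
    have hbij : Function.Bijective u := by
      have h := hu.map (Matrix.toLinAlgEquiv' (R := L) (n := Fin k)).toAlgHom
      have h' : (Matrix.toLinAlgEquiv' (R := L) (n := Fin k)).toAlgHom
          (1 + (LinearMap.toMatrix' (ι ∘ₗ f ∘ₗ π) - LinearMap.toMatrix' (ι ∘ₗ π))) = u := by
        rw [map_add, map_sub, map_one, hu']
        congr 2 <;> exact Matrix.toLin'_toMatrix' _
      rw [h'] at h
      exact (Module.End.isUnit_iff u).1 h
    have c1 : ∀ x, u (ι x) = ι (f x) := fun x => by simp [hu', hπ']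
    have c2 : ∀ v, π (u v) = f (π v) := fun v => by simp [hu', hπ']
    refine ⟨fun x y hxy => ?_, fun y => ?_⟩
    · have h0 : u (ι x) = u (ι y) := by rw [c1, c1, hxy]
      have := congrArg π (hbij.1 h0)
      rwa [hπ', hπ'] at this
    · obtain ⟨v, hv⟩ := hbij.2 (ι y)
      exact ⟨π v, by rw [← c2, hv, hπ']⟩
  have hqj' : ∀ x, q (j x) = x := fun x => LinearMap.congr_fun hj x
  have hpi' : ∀ x, p (i x) = x := fun x => LinearMap.congr_fun hi x
  have hba := key n M inferInstance inferInstance (b ∘ₗ a) i p hi (by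
    convert h1 using 3
    have : B₀ * A₀ = LinearMap.toMatrix' ((i ∘ₗ p) ∘ₗ Matrix.toLin' Bt ∘ₗ (j ∘ₗ q) ∘ₗ (j ∘ₗ q) ∘ₗ Matrix.toLin' At ∘ₗ
        (i ∘ₗ p)) := by
      simp only [hB₀, hA₀, hE, hF, LinearMap.toMatrix'_comp, LinearMap.toMatrix'_toLin', Matrix.mul_assoc]
    rw [this]
    congr 1
    refine LinearMap.ext fun x => ?_
    simp [a, b, hqj', hpi'])
  have hab := key m N inferInstance inferInstance (a ∘ₗ b) j q hj (by
    convert h2 using 3
    have : A₀ * B₀ = LinearMap.toMatrix' ((j ∘ₗ q) ∘ₗ Matrix.toLin' At ∘ₗ (i ∘ₗ p) ∘ₗ (i ∘ₗ p) ∘ₗ Matrix.toLin' Bt ∘ₗ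
        (j ∘ₗ q)) := by
      simp only [hB₀, hA₀, hE, hF, LinearMap.toMatrix'_comp, LinearMap.toMatrix'_toLin', Matrix.mul_assoc]
    rw [this]
    congr 1
    refine LinearMap.ext fun x => ?_
    simp [a, b, hqj', hpi'])
  exact ⟨LinearEquiv.ofBijective a ⟨Function.Injective.of_comp (f := b) hba.1,
    Function.Surjective.of_comp (g := b) hab.2⟩⟩

include hS in
/-- Stably free modules over `L'` come from stably free modules over `L`. -/
theorem exists_stablyFree (M' : Type u) [AddCommGroup M'] [Module L' M']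
    {n m : ℕ} (e : (M' × (Fin n → L')) ≃ₗ[L'] (Fin m → L')) :
    ∃ (M : Type u) (_ : AddCommGroup M) (_ : Module L M), Module.Finite L M ∧
      (∃ n m : ℕ, Nonempty ((M × (Fin n → L)) ≃ₗ[L] (Fin m → L))) ∧
      Nonempty (L' ⊗[L] M ≃ₗ[L'] M') := by
  classical
  let P₁ : (Fin m → L') →ₗ[L'] (Fin n → L') := LinearMap.snd L' M' _ ∘ₗ e.symm.toLinearMap
  let S₁ : (Fin n → L') →ₗ[L'] (Fin m → L') := e.toLinearMap ∘ₗ LinearMap.inr L' M' _
  have hPS₁ : P₁ ∘ₗ S₁ = LinearMap.id := LinearMap.ext fun x => by simp [P₁, S₁]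
  set P := LinearMap.toMatrix' P₁
  set Q := LinearMap.toMatrix' S₁
  have hPQ : P * Q = 1 := by rw [← LinearMap.toMatrix'_comp, hPS₁, LinearMap.toMatrix'_id]
  obtain ⟨P₀, hP₀, -⟩ := exists_approx hS P (1 : Matrix (Fin n) (Fin n) L') Q (1 : Matrix (Fin n) (Fin n) L') Q
  set P₀' := P₀.map (algebraMap L L')
  have hu' : IsUnit (P₀' * Q) := by
    have := hS.unit' _ (1 * (P₀' - P) * Q) hP₀
    rwa [Matrix.one_mul, Matrix.sub_mul, hPQ, add_sub_cancel] at this
  obtain ⟨Q₀, hQ₀, -⟩ := exists_approx hS Q P₀' (1 : Matrix (Fin n) (Fin n) L') P₀' (1 : Matrix (Fin n) (Fin n) L')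
  have hu : IsUnit (P₀ * Q₀) := by
    have h : IsUnit (1 + (P₀ * Q₀ - 1)) := by
      refine hS.unit _ _ fun r s => ?_
      have : (P₀ * Q₀ - 1).map (algebraMap L L') =
          P₀' * (Q₀.map (algebraMap L L') - Q) * (1 : Matrix (Fin n) (Fin n) L') + (1 : Matrix (Fin n) (Fin n) L') * (P₀' - P) * Q := by
        rw [Matrix.mul_one, Matrix.one_mul, Matrix.map_sub _ (map_sub _), Matrix.map_mul,
          Matrix.map_one _ (map_zero _) (map_one _), Matrix.mul_sub, Matrix.sub_mul, hPQ]
        abel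
      rw [← Matrix.map_apply (f := algebraMap L L') (M := P₀ * Q₀ - 1), this]
      exact add_mem (hQ₀ r s) (hP₀ r s)
    rwa [add_sub_cancel] at h
  let f := Matrix.toLin' P₀
  let g := Matrix.toLin' (Q₀ * (↑hu.unit⁻¹ : Matrix (Fin n) (Fin n) L))
  have hfg : ∀ v, f (g v) = v := fun v => by
    rw [← LinearMap.comp_apply, ← Matrix.toLin'_mul, ← Matrix.mul_assoc, IsUnit.mul_val_inv, Matrix.toLin'_one,
      LinearMap.id_apply]
  let pr : (Fin m → L) →ₗ[L] LinearMap.ker f :=
    (LinearMap.id - g ∘ₗ f).codRestrict _ fun v => by simp [hfg]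
  have hpr : ∀ x : LinearMap.ker f, pr x.1 = x := fun x => Subtype.ext (by simp [pr, LinearMap.mem_ker.1 x.2])
  haveI : Module.Finite L (LinearMap.ker f) := Module.Finite.of_surjective pr fun x => ⟨x.1, hpr x⟩
  refine ⟨LinearMap.ker f, inferInstance, inferInstance, inferInstance, ⟨n, m, ⟨LinearEquiv.ofLinear
    ((LinearMap.ker f).subtype.coprod g) (pr.prod f) ?_ ?_⟩⟩, ?_⟩
  · refine LinearMap.ext fun v => ?_
    simp [pr]
  · refine LinearMap.ext fun x => Prod.ext ?_ ?_
    · apply Subtype.ext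
      simp [pr, LinearMap.mem_ker.1 x.1.2, hfg]
    · simp [LinearMap.mem_ker.1 x.1.2, hfg]
  -- base change
  let ρ : L' ⊗[L] LinearMap.ker f →ₗ[L'] (Fin m → L') :=
    (TensorProduct.piScalarRight L L' L' (Fin m)).toLinearMap ∘ₗ (LinearMap.ker f).subtype.baseChange L'
  have hρr : ∀ z, pr.baseChange L' ((TensorProduct.piScalarRight L L' L' (Fin m)).symm (ρ z)) = z := fun z => by
    simp only [ρ, LinearMap.comp_apply, LinearEquiv.coe_coe, LinearEquiv.symm_apply_apply]
    rw [← LinearMap.comp_apply, ← LinearMap.baseChange_comp,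
      show pr ∘ₗ (LinearMap.ker f).subtype = LinearMap.id from LinearMap.ext hpr, LinearMap.baseChange_id,
      LinearMap.id_apply]
  have hPρ : ∀ z, Matrix.toLin' P₀' (ρ z) = 0 := fun z => by
    have h := piScalarRight_baseChange L' f ((LinearMap.ker f).subtype.baseChange L' z)
    rw [show LinearMap.toMatrix' f = P₀ from LinearMap.toMatrix'_toLin' _, ← LinearMap.comp_apply,
      ← LinearMap.baseChange_comp, LinearMap.comp_ker_subtype, LinearMap.baseChange_zero, LinearMap.zero_apply,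
      map_zero] at h
    exact h.symm
  let θ : L' ⊗[L] LinearMap.ker f →ₗ[L'] M' := LinearMap.fst L' M' _ ∘ₗ e.symm.toLinearMap ∘ₗ ρ
  refine ⟨LinearEquiv.ofBijective θ ⟨(injective_iff_map_eq_zero θ).2 fun z hz => ?_, fun y => ?_⟩⟩
  · have h1 : ρ z = S₁ (P₁ (ρ z)) := by
      apply e.symm.injective
      refine Prod.ext ?_ ?_
      · simpa [S₁, θ] using hz
      · simp [S₁, P₁]
    have h2 : Matrix.toLin' (P₀' * Q) (P₁ (ρ z)) = 0 := by
      rw [Matrix.toLin'_mul, LinearMap.comp_apply, Matrix.toLin'_toMatrix', ← h1, hPρ]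
    have h3 : P₁ (ρ z) = 0 := by
      have := congrArg (Matrix.toLin' (↑hu'.unit⁻¹ : Matrix (Fin n) (Fin n) L')) h2
      rwa [← LinearMap.comp_apply, ← Matrix.toLin'_mul, IsUnit.val_inv_mul, Matrix.toLin'_one, LinearMap.id_apply,
        map_zero] at this
    rw [h3, map_zero] at h1
    rw [← hρr z, h1, map_zero, map_zero]
  · let w : Fin m → L' := e (y, -Matrix.toLin' (↑hu'.unit⁻¹ : Matrix (Fin n) (Fin n) L') (Matrix.toLin' P₀' (e (y, 0))))
    have hw : Matrix.toLin' P₀' w = 0 := by
      have hdec : w = e (y, 0) - S₁ (Matrix.toLin' (↑hu'.unit⁻¹ : Matrix (Fin n) (Fin n) L') (Matrix.toLin' P₀' (e (y, 0)))) := by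
        simp only [S₁, LinearMap.comp_apply, LinearEquiv.coe_coe, w, ← map_sub]
        congr 1
        simp
      rw [hdec, map_sub, sub_eq_zero, ← Matrix.toLin'_toMatrix' S₁, ← LinearMap.comp_apply (Matrix.toLin' P₀'),
        ← Matrix.toLin'_mul, ← LinearMap.comp_apply, ← Matrix.toLin'_mul, IsUnit.mul_val_inv, Matrix.toLin'_one,
        LinearMap.id_apply]
    refine ⟨pr.baseChange L' ((TensorProduct.piScalarRight L L' L' (Fin m)).symm w), ?_⟩
    have hρ : ρ (pr.baseChange L' ((TensorProduct.piScalarRight L L' L' (Fin m)).symm w)) = w := by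
      simp only [ρ, LinearMap.comp_apply, LinearEquiv.coe_coe]
      rw [← LinearMap.comp_apply ((LinearMap.ker f).subtype.baseChange L'), ← LinearMap.baseChange_comp,
        show (LinearMap.ker f).subtype ∘ₗ pr = LinearMap.id - g ∘ₗ f from LinearMap.subtype_comp_codRestrict _ _ _,
        LinearMap.baseChange_sub, LinearMap.baseChange_id, LinearMap.sub_apply, LinearMap.id_apply, map_sub,
        LinearEquiv.apply_symm_apply, LinearMap.baseChange_comp, LinearMap.comp_apply, piScalarRight_baseChange]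
      have h := piScalarRight_baseChange L' f ((TensorProduct.piScalarRight L L' L' (Fin m)).symm w)
      rw [LinearEquiv.apply_symm_apply, show LinearMap.toMatrix' f = P₀ from LinearMap.toMatrix'_toLin' _, hw] at h
      rw [h, map_zero, sub_zero]
    show (e.symm (ρ _)).1 = y
    rw [hρ]
    simp [w]

end GrothLib.DenseProj1
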